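import Groth.Prelude.Def_W4c4lgringredgrpLG
import Mathlib.RingTheory.Spectrum.Prime.FreeLocus
import Mathlib.RingTheory.Finiteness.Projective
import Mathlib.LinearAlgebra.Matrix.ToLin
import Mathlib.LinearAlgebra.SymmetricAlgebra.Basic
import Mathlib.Algebra.MvPolynomial.Funext

/-!
Local-global rings: modules and rational points.
-/

open TensorProduct MvPolynomial

namespace Groth.Agent.H21LG

variable {R : Type*} [CommRing R]

theorem rep (hR : LGRing.IsLGRing R) {σ : Type} [Finite σ] (f : MvPolynomial σ R)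
    (h : ∀ (m : Ideal R) [m.IsMaximal], ∃ s : σ → R, eval s f ∉ m) :
    ∃ s : σ → R, IsUnit (eval s f) := by
  obtain ⟨n, ⟨e⟩⟩ := Finite.exists_equiv_fin σ
  obtain ⟨s, hs⟩ := hR n (rename e f) fun m _ => by
    obtain ⟨s, hs⟩ := h m
    refine ⟨fun i => Ideal.Quotient.mk m (s (e.symm i)), ?_⟩
    letI := Ideal.Quotient.field m
    rw [isUnit_iff_ne_zero]
    have e1 : aeval (fun i => Ideal.Quotient.mk m (s (e.symm i))) (rename e f) =
        Ideal.Quotient.mk m (eval s f) := by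
      rw [aeval_rename, aeval_def, Ideal.Quotient.algebraMap_eq, ← eval₂_id, eval₂_comp_left]
      simp [Function.comp_def]
    rw [e1, ne_eq, Ideal.Quotient.eq_zero_iff_mem]
    exact hs
  refine ⟨fun i => s (e i), ?_⟩
  rw [aeval_rename] at hs
  simpa [aeval_eq_eval, Function.comp_def] using hs

section Proj

variable {M : Type*} [AddCommGroup M] [Module R M]

/-- the idempotent matrix of a presentation -/
noncomputable def idem {n : ℕ} (i : M →ₗ[R] Fin n → R) (p : (Fin n → R) →ₗ[R] M) : Matrix (Fin n) (Fin n) R :=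
  LinearMap.toMatrix' (i ∘ₗ p)

theorem finrank_range_idem [Module.Finite R M] [Module.Projective R M] {n : ℕ} (i : M →ₗ[R] Fin n → R)
    (p : (Fin n → R) →ₗ[R] M) (hpi : p ∘ₗ i = LinearMap.id) (m : Ideal R) [hm : m.IsMaximal] :
    Module.finrank (R ⧸ m) (LinearMap.range (Matrix.toLin' ((idem i p).map (Ideal.Quotient.mk m)))) =
      Module.rankAtStalk M ⟨m, hm.isPrime⟩ := by
  classical
  letI := Ideal.Quotient.field m
  let w : (R ⧸ m) ⊗[R] (Fin n → R) ≃ₗ[R ⧸ m] (Fin n → R ⧸ m) :=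
    TensorProduct.piScalarRight R (R ⧸ m) (R ⧸ m) (Fin n)
  let I : (R ⧸ m) ⊗[R] M →ₗ[R ⧸ m] (Fin n → R ⧸ m) := w.toLinearMap ∘ₗ i.baseChange (R ⧸ m)
  let Q : (Fin n → R ⧸ m) →ₗ[R ⧸ m] (R ⧸ m) ⊗[R] M := p.baseChange (R ⧸ m) ∘ₗ w.symm.toLinearMap
  have hQI : Q ∘ₗ I = LinearMap.id := by
    refine LinearMap.ext fun x => ?_
    change p.baseChange (R ⧸ m) (w.symm (w (i.baseChange (R ⧸ m) x))) = x
    rw [w.symm_apply_apply, ← LinearMap.comp_apply, ← LinearMap.baseChange_comp, hpi, LinearMap.baseChange_id]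
    rfl
  have hIinj : Function.Injective I := Function.LeftInverse.injective (g := Q) (LinearMap.congr_fun hQI)
  have hQsurj : Function.Surjective Q := Function.RightInverse.surjective (g := I) (LinearMap.congr_fun hQI)
  have he : Matrix.toLin' ((idem i p).map (Ideal.Quotient.mk m)) = I ∘ₗ Q := by
    refine LinearMap.pi_ext' fun j => LinearMap.ext_ring ?_
    have hw : w.symm (Pi.single j 1) = (1 : R ⧸ m) ⊗ₜ[R] Pi.single j (1 : R) := by
      rw [LinearEquiv.symm_apply_eq]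
      funext k
      simp [w, Pi.single_apply, apply_ite]
    funext k
    simp [I, Q, hw, w, idem, LinearMap.toMatrix'_apply, Algebra.smul_def, Pi.single_apply]
  rw [he, LinearMap.range_comp_of_range_eq_top _ (LinearMap.range_eq_top.mpr hQsurj),
    LinearMap.finrank_range_of_inj hIinj]
  have h1 := Module.rankAtStalk_baseChange (R := R) (M := M) (S := R ⧸ m) ⟨⊥, Ideal.isPrime_bot⟩
  rw [Module.rankAtStalk_eq_finrank_of_free, Pi.natCast_apply] at h1
  rw [Nat.cast_id] at h1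
  rw [h1]
  congr 1
  ext x
  simp [Ideal.Quotient.eq_zero_iff_mem]

theorem matrix_surjective (m : Ideal R) {a b : Type*} (A : Matrix a b (R ⧸ m)) :
    ∃ A' : Matrix a b R, A'.map (Ideal.Quotient.mk m) = A :=
  ⟨A.map (Function.surjInv Ideal.Quotient.mk_surjective), by
    ext i j; simp [Function.surjInv_eq Ideal.Quotient.mk_surjective]⟩

theorem exists_mats {n₁ n₂ : ℕ} {K : Type*} [Field K] (E₁ : Matrix (Fin n₁) (Fin n₁) K)
    (E₂ : Matrix (Fin n₂) (Fin n₂) K) (h₁ : E₁ * E₁ = E₁) (h₂ : E₂ * E₂ = E₂)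
    (h : Module.finrank K (LinearMap.range (Matrix.toLin' E₁)) = Module.finrank K (LinearMap.range (Matrix.toLin' E₂))) :
    ∃ (A : Matrix (Fin n₂) (Fin n₁) K) (B : Matrix (Fin n₁) (Fin n₂) K),
      E₁ * B * E₂ * A * E₁ = E₁ ∧ E₂ * A * E₁ * B * E₂ = E₂ := by
  let f₁ := Matrix.toLin' E₁
  let f₂ := Matrix.toLin' E₂
  obtain e : LinearMap.range f₁ ≃ₗ[K] LinearMap.range f₂ := LinearEquiv.ofFinrankEq _ _ h
  let a : (Fin n₁ → K) →ₗ[K] (Fin n₂ → K) := (LinearMap.range f₂).subtype ∘ₗ e.toLinearMap ∘ₗ f₁.rangeRestrict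
  let b : (Fin n₂ → K) →ₗ[K] (Fin n₁ → K) := (LinearMap.range f₁).subtype ∘ₗ e.symm.toLinearMap ∘ₗ f₂.rangeRestrict
  have i₁ : ∀ x : LinearMap.range f₁, f₁ x = (x : Fin n₁ → K) := fun ⟨x, y, hy⟩ => by
    subst hy; change f₁ (f₁ y) = f₁ y
    rw [← LinearMap.comp_apply, ← Matrix.toLin'_mul, h₁]
  have i₂ : ∀ x : LinearMap.range f₂, f₂ x = (x : Fin n₂ → K) := fun ⟨x, y, hy⟩ => by
    subst hy; change f₂ (f₂ y) = f₂ y
    rw [← LinearMap.comp_apply, ← Matrix.toLin'_mul, h₂]
  have r₁ : ∀ x : LinearMap.range f₁, f₁.rangeRestrict (x : Fin n₁ → K) = x := fun x => Subtype.ext (i₁ x)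
  have r₂ : ∀ x : LinearMap.range f₂, f₂.rangeRestrict (x : Fin n₂ → K) = x := fun x => Subtype.ext (i₂ x)
  refine ⟨LinearMap.toMatrix' a, LinearMap.toMatrix' b, ?_, ?_⟩
  · apply Matrix.toLin'.injective
    refine LinearMap.ext fun x => ?_
    simp only [Matrix.toLin'_mul, Matrix.toLin'_toMatrix', LinearMap.comp_apply]
    change f₁ (b (f₂ (a (f₁ x)))) = f₁ x
    simp only [a, b, LinearMap.comp_apply, LinearEquiv.coe_coe, Submodule.subtype_apply, i₂, r₂,
      LinearEquiv.symm_apply_apply, i₁]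
    exact i₁ ⟨f₁ x, x, rfl⟩
  · apply Matrix.toLin'.injective
    refine LinearMap.ext fun x => ?_
    simp only [Matrix.toLin'_mul, Matrix.toLin'_toMatrix', LinearMap.comp_apply]
    change f₂ (a (f₁ (b (f₂ x)))) = f₂ x
    simp only [a, b, LinearMap.comp_apply, LinearEquiv.coe_coe, Submodule.subtype_apply, i₁, r₁,
      LinearEquiv.apply_symm_apply, i₂]
    exact i₂ ⟨f₂ x, x, rfl⟩

theorem bijective_of_det {n : ℕ} (i : M →ₗ[R] Fin n → R) (p : (Fin n → R) →ₗ[R] M)
    (hpi : p ∘ₗ i = LinearMap.id) (T : M →ₗ[R] M)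
    (h : IsUnit (LinearMap.toMatrix' (i ∘ₗ T ∘ₗ p + (LinearMap.id - i ∘ₗ p))).det) : Function.Bijective T := by
  set H := i ∘ₗ T ∘ₗ p + (LinearMap.id - i ∘ₗ p)
  have hb : Function.Bijective H := by
    obtain ⟨N, hN⟩ := (Matrix.isUnit_iff_isUnit_det _).mpr h
    have e := Matrix.toLin'_toMatrix' H
    rw [← hN] at e
    refine Function.bijective_iff_has_inverse.mpr ⟨Matrix.toLin' (↑N⁻¹ : Matrix (Fin n) (Fin n) R),
      fun x => ?_, fun x => ?_⟩ <;>
      rw [← e, ← LinearMap.comp_apply, ← Matrix.toLin'_mul] <;> simp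
  have hi : ∀ x, H (i x) = i (T x) := fun x => by
    have := LinearMap.congr_fun hpi x
    simp only [LinearMap.comp_apply, LinearMap.id_apply] at this
    simp [H, this]
  refine ⟨fun x y hxy => ?_, fun y => ?_⟩
  · have := hb.1 ((hi x).trans ((congrArg i hxy).trans (hi y).symm))
    simpa [← LinearMap.comp_apply, hpi] using congrArg p this
  · obtain ⟨z, hz⟩ := hb.2 (i y)
    refine ⟨p z, ?_⟩
    have hp : ∀ x, p (i x) = x := LinearMap.congr_fun hpi
    simpa [H, hp] using congrArg p hz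

theorem nonempty_equiv_of_rank (hR : LGRing.IsLGRing R) [Module.Finite R M] [Module.Projective R M]
    {M' : Type*} [AddCommGroup M'] [Module R M'] [Module.Finite R M'] [Module.Projective R M']
    (h : ∀ (m : Ideal R) [hm : m.IsMaximal],
      Module.rankAtStalk M ⟨m, hm.isPrime⟩ = Module.rankAtStalk M' ⟨m, hm.isPrime⟩) :
    Nonempty (M ≃ₗ[R] M') := by
  classical
  obtain ⟨n₁, p₁, i₁, -, -, h₁⟩ := Module.Finite.exists_comp_eq_id_of_projective R M
  obtain ⟨n₂, p₂, i₂, -, -, h₂⟩ := Module.Finite.exists_comp_eq_id_of_projective R M'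
  let E₁ := idem i₁ p₁
  let E₂ := idem i₂ p₂
  have q₁ : E₁ * E₁ = E₁ := by
    simp only [E₁, idem, ← LinearMap.toMatrix'_comp]
    rw [LinearMap.comp_assoc, ← LinearMap.comp_assoc p₁ i₁ p₁, h₁, LinearMap.id_comp]
  have q₂ : E₂ * E₂ = E₂ := by
    simp only [E₂, idem, ← LinearMap.toMatrix'_comp]
    rw [LinearMap.comp_assoc, ← LinearMap.comp_assoc p₂ i₂ p₂, h₂, LinearMap.id_comp]
  let σ := (Fin n₂ × Fin n₁) ⊕ (Fin n₁ × Fin n₂)
  let A : Matrix (Fin n₂) (Fin n₁) (MvPolynomial σ R) := .of fun a b => X (Sum.inl (a, b))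
  let B : Matrix (Fin n₁) (Fin n₂) (MvPolynomial σ R) := .of fun a b => X (Sum.inr (a, b))
  let K₁ : Matrix (Fin n₁) (Fin n₁) (MvPolynomial σ R) := E₁.map (C : R →+* MvPolynomial σ R)
  let K₂ : Matrix (Fin n₂) (Fin n₂) (MvPolynomial σ R) := E₂.map (C : R →+* MvPolynomial σ R)
  let P₁ := K₁ * B * K₂ * A * K₁ + (1 - K₁)
  let P₂ := K₂ * A * K₁ * B * K₂ + (1 - K₂)
  have hev : ∀ s : σ → R,
      eval s (P₁.det * P₂.det) =
        (E₁ * (Matrix.of fun a b => s (Sum.inr (a, b))) * E₂ * (Matrix.of fun a b => s (Sum.inl (a, b))) * E₁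
          + (1 - E₁)).det *
        (E₂ * (Matrix.of fun a b => s (Sum.inl (a, b))) * E₁ * (Matrix.of fun a b => s (Sum.inr (a, b))) * E₂
          + (1 - E₂)).det := by
    intro s
    have e1 : ∀ {a : ℕ} (E : Matrix (Fin a) (Fin a) R), (E.map (C : R →+* MvPolynomial σ R)).map (eval s) = E := by
      intro a E; ext i j; simp
    have eA : A.map (eval s) = Matrix.of fun a b => s (Sum.inl (a, b)) := by ext i j; simp [A]
    have eB : B.map (eval s) = Matrix.of fun a b => s (Sum.inr (a, b)) := by ext i j; simp [B]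
    rw [map_mul, RingHom.map_det, RingHom.map_det]
    simp only [P₁, P₂, K₁, K₂, map_add, map_sub, map_one, RingHom.mapMatrix_apply, Matrix.map_add _ (map_add (eval s)),
      Matrix.map_mul, Matrix.map_sub _ (map_sub (eval s)), Matrix.map_one _ (map_zero (eval s)) (map_one (eval s)),
      e1, eA, eB]
  obtain ⟨s, hs⟩ := rep hR (P₁.det * P₂.det) fun m hm => by
    letI := Ideal.Quotient.field m
    have r := h m
    rw [← finrank_range_idem i₁ p₁ h₁ m, ← finrank_range_idem i₂ p₂ h₂ m] at r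
    obtain ⟨A₀, B₀, e₁, e₂⟩ := exists_mats _ _ (by rw [← Matrix.map_mul]; exact congrArg (fun X : Matrix (Fin n₁) (Fin n₁) R => X.map (Ideal.Quotient.mk m)) q₁)
      (by rw [← Matrix.map_mul]; exact congrArg (fun X : Matrix (Fin n₂) (Fin n₂) R => X.map (Ideal.Quotient.mk m)) q₂) r
    obtain ⟨A', rfl⟩ := matrix_surjective m A₀
    obtain ⟨B', rfl⟩ := matrix_surjective m B₀
    refine ⟨Sum.elim (fun ab => A' ab.1 ab.2) (fun ab => B' ab.1 ab.2), fun hmem => ?_⟩
    rw [hev, ← Ideal.Quotient.eq_zero_iff_mem, map_mul, RingHom.map_det, RingHom.map_det] at hmem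
    have hA : (Matrix.of fun a b => A' a b) = A' := rfl
    have hB : (Matrix.of fun a b => B' a b) = B' := rfl
    simp [Matrix.map_add _ (map_add (Ideal.Quotient.mk m)), Matrix.map_sub _ (map_sub (Ideal.Quotient.mk m)),
      Matrix.map_mul, E₁, E₂, e₁, e₂, hA, hB] at hmem
  rw [hev, IsUnit.mul_iff] at hs
  set A' := Matrix.of fun a b => s (Sum.inl (a, b))
  set B' := Matrix.of fun a b => s (Sum.inr (a, b))
  let f : M →ₗ[R] M' := p₂ ∘ₗ Matrix.toLin' A' ∘ₗ i₁
  let g : M' →ₗ[R] M := p₁ ∘ₗ Matrix.toLin' B' ∘ₗ i₂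
  have k₁ : Function.Bijective (g ∘ₗ f) := by
    refine bijective_of_det i₁ p₁ h₁ _ ?_
    convert hs.1
    apply Matrix.toLin'.injective
    simp [f, g, E₁, E₂, idem, Matrix.toLin'_mul, Matrix.toLin'_toMatrix', map_add, map_sub, LinearMap.comp_assoc,
      Matrix.toLin'_one]
  have k₂ : Function.Bijective (f ∘ₗ g) := by
    refine bijective_of_det i₂ p₂ h₂ _ ?_
    convert hs.2
    apply Matrix.toLin'.injective
    simp [f, g, E₁, E₂, idem, Matrix.toLin'_mul, Matrix.toLin'_toMatrix', map_add, map_sub, LinearMap.comp_assoc,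
      Matrix.toLin'_one]
  exact ⟨LinearEquiv.ofBijective f ⟨Function.Injective.of_comp (f := g) k₁.1, Function.Surjective.of_comp (g := g) k₂.2⟩⟩

theorem exists_unimodular (hR : LGRing.IsLGRing R) [Module.Finite R M] [Module.Projective R M]
    [FaithfulSMul R M] : ∃ (x : M) (f : Module.Dual R M), f x = 1 := by
  classical
  obtain ⟨n, p, i, -, -, hpi⟩ := Module.Finite.exists_comp_eq_id_of_projective R M
  let σ := Fin n ⊕ Fin n
  let F : MvPolynomial σ R := ∑ a, ∑ b, X (Sum.inl a) * C (idem i p a b) * X (Sum.inr b)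
  obtain ⟨s, hs⟩ := rep hR F fun m hm => by
    letI := Ideal.Quotient.field m
    have hpos : 0 < Module.rankAtStalk M ⟨m, hm.isPrime⟩ := by
      rw [Module.rankAtStalk_pos_iff_mem_support, Module.mem_support_iff_of_finite]
      rw [Module.annihilator_eq_bot.mpr inferInstance]; exact bot_le
    rw [← finrank_range_idem i p hpi m] at hpos
    obtain ⟨a, b, hab⟩ : ∃ a b, idem i p a b ∉ m := by
      by_contra hne
      simp only [not_exists, not_not] at hne
      have : (idem i p).map (Ideal.Quotient.mk m) = 0 := by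
        ext a b; simpa using Ideal.Quotient.eq_zero_iff_mem.mpr (hne a b)
      rw [this, map_zero, LinearMap.range_zero, finrank_bot] at hpos
      exact lt_irrefl _ hpos
    refine ⟨Sum.elim (Pi.single a 1) (Pi.single b 1), ?_⟩
    simpa [F, Pi.single_apply] using hab
  obtain ⟨u, hu⟩ := hs
  refine ⟨p fun b => s (Sum.inr b), (↑u⁻¹ : R) • ((∑ a, s (Sum.inl a) • LinearMap.proj (R := R) (φ := fun _ : Fin n => R) a) ∘ₗ i), ?_⟩
  have hE : ∀ v a, i (p v) a = ∑ b, idem i p a b * v b := fun v a => by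
    have := congrFun (LinearMap.congr_fun (Matrix.toLin'_toMatrix' (i ∘ₗ p)) v) a
    rw [← LinearMap.comp_apply, ← this]
    rfl
  have key : ((∑ a, s (Sum.inl a) • LinearMap.proj (R := R) (φ := fun _ : Fin n => R) a) ∘ₗ i) (p fun b => s (Sum.inr b)) = eval s F := by
    simp [F, hE, Finset.mul_sum, mul_assoc]
  rw [LinearMap.smul_apply, key, ← hu, smul_eq_mul, Units.inv_mul]

end Proj

/-- a finite family of polynomials unimodular at some point modulo every maximal ideal -/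
theorem exists_span_eval_eq_top (hR : LGRing.IsLGRing R) {σ : Type} [Finite σ] (t : Finset (MvPolynomial σ R))
    (h : ∀ (m : Ideal R) [m.IsMaximal], ∃ s : σ → R, ∃ f ∈ t, eval s f ∉ m) :
    ∃ s : σ → R, Ideal.span (eval s '' (t : Set (MvPolynomial σ R))) = ⊤ := by
  classical
  let τ := σ ⊕ Fin t.card
  let F : MvPolynomial τ R := ∑ i : Fin t.card, X (Sum.inr i) * rename Sum.inl (t.equivFin.symm i : MvPolynomial σ R)
  have hev : ∀ s : τ → R, eval s F = ∑ i : Fin t.card, s (Sum.inr i) * eval (s ∘ Sum.inl) (t.equivFin.symm i : MvPolynomial σ R) := by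
    intro s; simp [F, eval_rename]
  obtain ⟨s, hs⟩ := rep hR F fun m hm => by
    obtain ⟨s, f, hf, hfm⟩ := h m
    refine ⟨Sum.elim s (Pi.single (t.equivFin ⟨f, hf⟩) 1), ?_⟩
    rw [hev]
    simpa [Pi.single_apply, Function.comp_def] using hfm
  refine ⟨s ∘ Sum.inl, ?_⟩
  obtain ⟨u, hu⟩ := hs
  refine Ideal.eq_top_of_isUnit_mem _ ?_ u.isUnit
  rw [hu, hev]
  exact sum_mem fun i _ => Ideal.mul_mem_left _ _ (Ideal.subset_span ⟨_, (t.equivFin.symm i).2, rfl⟩)

theorem range_comap_subset_iff {A S : Type*} [CommRing A] [CommRing S] (φ : A →+* S) (t : Set A) :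
    Set.range (PrimeSpectrum.comap φ) ⊆ (PrimeSpectrum.zeroLocus t)ᶜ ↔ Ideal.span (φ '' t) = ⊤ := by
  rw [← PrimeSpectrum.zeroLocus_empty_iff_eq_top, PrimeSpectrum.zeroLocus_span, Set.eq_empty_iff_forall_notMem,
    Set.range_subset_iff]
  exact forall_congr' fun p => by simp [Set.subset_def]

section Sym

variable {M : Type*} [AddCommGroup M] [Module R M] {n : ℕ}

/-- the functional of a coordinate vector -/
noncomputable def phiOf {S : Type*} [CommRing S] [Algebra R S] (p : (Fin n → R) →ₗ[R] M) (x : Fin n → S) :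
    Module.Dual R M →ₗ[R] S where
  toFun ψ := ∑ k, ψ (p (Pi.single k 1)) • x k
  map_add' a b := by simp [add_smul, Finset.sum_add_distrib]
  map_smul' c a := by simp [Finset.smul_sum, smul_smul]

theorem phiOf_surjective {S : Type*} [CommRing S] [Algebra R S] (i : M →ₗ[R] Fin n → R)
    (p : (Fin n → R) →ₗ[R] M) (hpi : p ∘ₗ i = LinearMap.id) (φ : Module.Dual R M →ₗ[R] S) :
    φ = phiOf p fun k => φ (LinearMap.proj k ∘ₗ i) := by
  classical
  refine LinearMap.ext fun ψ => ?_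
  have e : ψ = ∑ k, ψ (p (Pi.single k 1)) • (LinearMap.proj k ∘ₗ i) := by
    refine LinearMap.ext fun y => ?_
    conv_lhs => rw [← LinearMap.id_apply (R := R) y, ← hpi, LinearMap.comp_apply,
      pi_eq_sum_univ' (i y)]
    simp [mul_comm]
  conv_lhs => rw [e]
  simp [phiOf]

/-- the map to polynomials in coordinates -/
noncomputable def theta (p : (Fin n → R) →ₗ[R] M) :
    SymmetricAlgebra R (Module.Dual R M) →ₐ[R] MvPolynomial (Fin n) R :=
  SymmetricAlgebra.lift (phiOf p X)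

theorem aeval_theta {S : Type*} [CommRing S] [Algebra R S] (p : (Fin n → R) →ₗ[R] M) (x : Fin n → S)
    (a : SymmetricAlgebra R (Module.Dual R M)) :
    aeval x (theta p a) = SymmetricAlgebra.lift (phiOf p x) a := by
  rw [← AlgHom.comp_apply]
  congr 1
  refine SymmetricAlgebra.algHom_ext (LinearMap.ext fun ψ => ?_)
  simp [theta, SymmetricAlgebra.lift_ι_apply, phiOf]

theorem theta_left_inv (i : M →ₗ[R] Fin n → R) (p : (Fin n → R) →ₗ[R] M) (hpi : p ∘ₗ i = LinearMap.id)
    (a : SymmetricAlgebra R (Module.Dual R M)) :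
    aeval (fun k => SymmetricAlgebra.ι R (Module.Dual R M) (LinearMap.proj k ∘ₗ i)) (theta p a) = a := by
  rw [aeval_theta, ← phiOf_surjective i p hpi, SymmetricAlgebra.lift_ι]
  rfl

theorem exists_point (hR : LGRing.IsLGRing R) [Module.Finite R M] [Module.Projective R M]
    (t : Finset (SymmetricAlgebra R (Module.Dual R M)))
    (h : ∀ (m : Ideal R) [m.IsMaximal], ∃ φ : Module.Dual R M →ₗ[R] R, ∃ f ∈ t, SymmetricAlgebra.lift φ f ∉ m) :
    ∃ φ : Module.Dual R M →ₗ[R] R,
      Ideal.span ((SymmetricAlgebra.lift φ).toRingHom '' (t : Set (SymmetricAlgebra R (Module.Dual R M)))) = ⊤ := by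
  classical
  obtain ⟨n, p, i, -, -, hpi⟩ := Module.Finite.exists_comp_eq_id_of_projective R M
  have hth : ∀ (x : Fin n → R) (a : SymmetricAlgebra R (Module.Dual R M)),
      eval x (theta p a) = SymmetricAlgebra.lift (phiOf p x) a := fun x a => by
    rw [← aeval_eq_eval]; exact aeval_theta p x a
  obtain ⟨s, hs⟩ := exists_span_eval_eq_top hR (t.image (theta p)) fun m hm => by
    obtain ⟨φ, f, hf, hfm⟩ := h m
    refine ⟨fun k => φ (LinearMap.proj k ∘ₗ i), theta p f, Finset.mem_image_of_mem _ hf, ?_⟩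
    rwa [hth, ← phiOf_surjective i p hpi]
  refine ⟨phiOf p s, ?_⟩
  rw [← hs, Finset.coe_image, Set.image_image]
  exact congrArg _ (Set.image_congr fun a _ => (hth s a).symm)

end Sym

end Groth.Agent.H21LG
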