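import Groth.Agent.H21LG.Basic

/-!
Points of open subsets of vector bundles.
-/

open TensorProduct MvPolynomial

namespace Groth.Agent.H21LG

variable {R : Type*} [CommRing R] {M : Type*} [AddCommGroup M] [Module R M] [Module.Finite R M] [Module.Projective R M]

theorem exists_lift_functional (m : Ideal R) (φ : Module.Dual R M →ₗ[R] (R ⧸ m)) :
    ∃ φ' : Module.Dual R M →ₗ[R] R, ∀ a, SymmetricAlgebra.lift φ a = Ideal.Quotient.mk m (SymmetricAlgebra.lift φ' a) := by
  classical
  obtain ⟨n, p, i, -, -, hpi⟩ := Module.Finite.exists_comp_eq_id_of_projective R M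
  refine ⟨phiOf p fun k => Function.surjInv Ideal.Quotient.mk_surjective (φ (LinearMap.proj k ∘ₗ i)), fun a => ?_⟩
  refine Eq.trans ?_ (AlgHom.comp_apply (Ideal.Quotient.mkₐ R m) _ a)
  congr 1
  refine SymmetricAlgebra.algHom_ext (LinearMap.ext fun ψ => ?_)
  simp [SymmetricAlgebra.lift_ι_apply]
  conv_lhs => rw [phiOf_surjective i p hpi φ]
  simp [phiOf, Algebra.smul_def, Function.surjInv_eq Ideal.Quotient.mk_surjective]

/-- over an infinite residue field, an element outside `m` times the symmetric algebra is nonzero somewhere -/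
theorem exists_functional_of_notMem (m : Ideal R) [m.IsMaximal] [Infinite (R ⧸ m)]
    {f : SymmetricAlgebra R (Module.Dual R M)}
    (hf : f ∉ Ideal.map (algebraMap R (SymmetricAlgebra R (Module.Dual R M))) m) :
    ∃ φ : Module.Dual R M →ₗ[R] R, SymmetricAlgebra.lift φ f ∉ m := by
  classical
  letI := Ideal.Quotient.field m
  obtain ⟨n, p, i, -, -, hpi⟩ := Module.Finite.exists_comp_eq_id_of_projective R M
  by_contra h
  simp only [not_exists, not_not] at h
  refine hf ?_
  have h0 : MvPolynomial.map (Ideal.Quotient.mk m) (theta p f) = 0 := by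
    refine MvPolynomial.funext fun x => ?_
    let x' : Fin n → R := fun k => Function.surjInv Ideal.Quotient.mk_surjective (x k)
    have hx : x = fun k => Ideal.Quotient.mk m (x' k) :=
      funext fun k => (Function.surjInv_eq Ideal.Quotient.mk_surjective _).symm
    rw [map_zero, hx, eval_map, ← Function.comp_def, ← eval₂_comp,
      Ideal.Quotient.eq_zero_iff_mem, ← aeval_eq_eval, aeval_theta]
    exact h _
  rw [← theta_left_inv i p hpi f, aeval_def]
  have hcoeff : ∀ d, coeff d (theta p f) ∈ m := fun d => by
    have := congrArg (coeff d) h0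
    rwa [coeff_map, coeff_zero, Ideal.Quotient.eq_zero_iff_mem] at this
  rw [eval₂_eq]
  exact sum_mem fun d _ => Ideal.mul_mem_right _ _ (Ideal.mem_map_of_mem _ (hcoeff d))

end Groth.Agent.H21LG
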